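import Mathlib
import Cfsg.Agent.S4510
import Cfsg.Agent.H775.S4790.Quot
import Cfsg.Agent.H352.S4790.Kap
import Cfsg.Agent.Characters.ClassMul
import Cfsg.Agent.Blocks.Central

/-!
# The formula (F) for almost `p`-rational characters of `p'`-degree in the principal block (S4791, S4927; helper185)

`P` a Sylow `p`-subgroup, `O` the subgroup of the `p`-regular elements of `C(P)` (`OP p P O`), `aO O χ` the multiplicity of the
trivial character of `O` in `χ`.

* `aO_principal` : `aO O χ ≡ χ(1) (mod p)` for `χ` in the principal block;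
* `dvd_aO` : `p ∣ aO O χ` for `χ` not in the principal block;
* `F_congr` : `∑ c χ * aO O χ ≡ ∑_{χ ∈ X0} c χ * χ(1) (mod p)` for integers `c χ` constant on the orbits of `J`;
* `exists_member`, `card_le` : pairwise orthogonal `J`-fixed characters `ψ` with `p ∤ [ψ_O, 1_O]` give different members of
  `X0 = {χ ∈ Irr(B₀(G)) : p ∤ χ(1), χ almost p-rational}`.
-/

set_option autoImplicit false

open scoped ComplexConjugate
open Cfsg Cfsg.Agent.Characters Cfsg.Agent.Blocks.Local
open Cfsg.Agent.H697.Alm (AlmRat)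

namespace Cfsg.Agent.H185.AR

universe u

variable {G : Type u} [Group G] {p : ℕ}

/-- `O` is the set of the `p`-regular elements of `C(P)` -/
structure OP (p : ℕ) (P O : Subgroup G) : Prop where
  le : O ≤ Subgroup.centralizer (P : Set G)
  cop : ¬ p ∣ Nat.card O
  all : ∀ x ∈ Subgroup.centralizer (P : Set G), ¬ p ∣ orderOf x → x ∈ O

variable [Finite G] [hp : Fact p.Prime]

/-- sums over `P`-invariant sets -/
theorem fixed_sum [Fintype G] (P : Sylow p G) {f : G → ℂ} (hint : ∀ u, IsIntegral ℤ (f u))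
    (hinv : ∀ x ∈ (P : Subgroup G), ∀ u, f (x * u * x⁻¹) = f u) (S : G → Prop) [DecidablePred S]
    [DecidablePred (fun u : G => u ∈ Subgroup.centralizer ((P : Subgroup G) : Set G))]
    (hS : ∀ x ∈ (P : Subgroup G), ∀ u, S (x * u * x⁻¹) ↔ S u) :
    ∃ r : ℂ, IsIntegral ℤ r ∧ ∑ u with S u, f u =
      ∑ u with (S u ∧ u ∈ Subgroup.centralizer ((P : Subgroup G) : Set G)), f u + p * r := by
  classical
  letI : MulAction (P : Subgroup G) G :=
    MulAction.compHom G ((MulAut.conj : G →* MulAut G).comp (P : Subgroup G).subtype)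
  have hsm : ∀ (x : (P : Subgroup G)) (u : G), x • u = x * u * (x : G)⁻¹ := fun x u => rfl
  have hcen : ∀ x ∈ (P : Subgroup G), ∀ u, x * u * x⁻¹ ∈ Subgroup.centralizer ((P : Subgroup G) : Set G) ↔
      u ∈ Subgroup.centralizer ((P : Subgroup G) : Set G) := by
    have key : ∀ x ∈ (P : Subgroup G), ∀ u, u ∈ Subgroup.centralizer ((P : Subgroup G) : Set G) → x * u * x⁻¹ = u := by
      intro x hx u hu
      rw [Subgroup.mem_centralizer_iff.1 hu x hx, mul_inv_cancel_right]
    intro x hx u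
    constructor
    · intro h
      have h1 := key x⁻¹ ((P : Subgroup G).inv_mem hx) _ h
      have h2 : x⁻¹ * (x * u * x⁻¹) * x⁻¹⁻¹ = u := by group
      rw [h2] at h1
      rw [h1]
      exact h
    · intro h
      rw [key x hx u h]
      exact h
  obtain ⟨r, hr, hs⟩ := DefectZero.sum_eq_of_dvd_orbit (H := (P : Subgroup G)) (X := G)
    (integralClosure ℤ ℂ).toSubring p
    (fun u => if S u ∧ u ∉ Subgroup.centralizer ((P : Subgroup G) : Set G) then f u else 0)
    (by
      intro x u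
      simp only [hsm]
      rw [hinv x x.2 u]
      exact if_congr (and_congr (hS x x.2 u) (not_congr (hcen x x.2 u))) rfl rfl)
    (by
      intro u
      by_cases h : S u ∧ u ∉ Subgroup.centralizer ((P : Subgroup G) : Set G)
      · simp only [if_pos h]
        exact hint u
      · simp only [if_neg h]
        exact Subring.zero_mem _)
    (by
      intro u hu
      have h : S u ∧ u ∉ Subgroup.centralizer ((P : Subgroup G) : Set G) := by
        by_contra h
        exact hu (if_neg h)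
      obtain ⟨n, hn⟩ := P.isPGroup'.card_orbit u
      rcases Nat.eq_zero_or_pos n with rfl | hn0
      · exfalso
        apply h.2
        rw [pow_zero] at hn
        rw [Subgroup.mem_centralizer_iff]
        intro x hx
        have h1 := (Nat.card_eq_one_iff_unique.1 hn).1
        have h2 := h1.elim ⟨(⟨x, hx⟩ : (P : Subgroup G)) • u, MulAction.mem_orbit u _⟩ ⟨u, MulAction.mem_orbit_self u⟩
        have h3 : x * u * x⁻¹ = u := congrArg Subtype.val h2
        rw [mul_inv_eq_iff_eq_mul] at h3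
        exact h3
      · rw [hn]
        exact dvd_pow_self p hn0.ne')
  refine ⟨r, hr, ?_⟩
  rw [← hs, Finset.sum_filter, Finset.sum_filter, ← Finset.sum_add_distrib]
  refine Finset.sum_congr rfl fun u _ => ?_
  by_cases h1 : S u
  · by_cases h2 : u ∈ Subgroup.centralizer ((P : Subgroup G) : Set G)
    · rw [if_pos h1, if_pos ⟨h1, h2⟩, if_neg (fun h => h.2 h2), add_zero]
    · rw [if_pos h1, if_neg (fun h => h2 h.2), if_pos ⟨h1, h2⟩, zero_add]
  · rw [if_neg h1, if_neg (fun h => h1 h.1), if_neg (fun h => h1 h.1), add_zero]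

/-- the multiplicity of the trivial character of `O` in `χ` -/
noncomputable def aO (O : Subgroup G) (χ : G → ℂ) : ℕ :=
  ⌊((Nat.card O : ℂ)⁻¹ * ∑ᶠ y : O, χ y).re⌋₊

theorem aO_eq [Fintype G] (O : Subgroup G) [Fintype O] {χ : G → ℂ} (hχ : IsCharacter G χ) :
    ∑ y : O, χ y = (Nat.card O : ℂ) * aO O χ := by
  obtain ⟨n, hn⟩ := Core.classInner_isNat (Core.isCharacter_comp O.subtype hχ) (Core.isCharacter_one (G := O))
  have h0 : (Nat.card O : ℂ) ≠ 0 := by exact_mod_cast Nat.card_pos.ne'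
  have h1 : (Nat.card O : ℂ)⁻¹ * ∑ y : O, χ y = n := by
    rw [← hn, Core.classInner_def]
    congr 1
    refine Finset.sum_congr rfl fun y _ => ?_
    simp
  have h2 : aO O χ = n := by
    unfold aO
    rw [finsum_eq_sum_of_fintype, h1, Complex.natCast_re, Nat.floor_natCast]
  rw [h2, ← h1, mul_inv_cancel_left₀ h0]

theorem classInner_one_eq [Fintype G] (O : Subgroup G) [Fintype O] {χ : G → ℂ} (hχ : IsCharacter G χ) :
    classInner (fun y : O => χ y) (fun _ => 1) = aO O χ := by
  have h0 : (Nat.card O : ℂ) ≠ 0 := by exact_mod_cast Nat.card_pos.ne'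
  rw [Core.classInner_def]
  have h1 := aO_eq O hχ
  simp only [map_one, mul_one]
  rw [h1, inv_mul_cancel_left₀ h0]

/-- the main identity -/
theorem key_id [Fintype G] (P : Sylow p G) {O : Subgroup G} [Fintype O] (hO : OP p (P : Subgroup G) O) {χ : G → ℂ}
    (hχ : IsIrrCharacter G χ) {w : G} (hw : ¬ p ∣ orderOf w) :
    ∃ (n : ℕ) (r r' : ℂ), IsIntegral ℤ r ∧ IsIntegral ℤ r' ∧
      centralChar χ w * ∑ y : O, χ y = n * (∑ y : O, χ y) + p * r ∧
      ((Subgroup.centralizer ({w} : Set G)).index : ℂ) = n + p * r' := by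
  classical
  have hc := Core.isIrr_isCharacter hχ
  have hconj : ∀ x u : G, IsConj w (x * u * x⁻¹) ↔ IsConj w u := by
    intro x u
    have h : IsConj u (x * u * x⁻¹) := isConj_iff.2 ⟨x, rfl⟩
    exact ⟨fun h1 => h1.trans h.symm, fun h1 => h1.trans h⟩
  have hyc : ∀ y : O, ∀ x ∈ (P : Subgroup G), x * (y : G) = y * x := fun y x hx =>
    Subgroup.mem_centralizer_iff.1 (hO.le y.2) x hx
  obtain ⟨r, hr, h1⟩ := fixed_sum P (f := fun u => ∑ y : O, χ (u * y))
    (fun u => IsIntegral.sum _ fun y _ => GaloisBasic.isIntegral_apply hc _)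
    (by
      intro x hx u
      refine Finset.sum_congr rfl fun y _ => ?_
      have h2 : x * u * x⁻¹ * (y : G) = x * (u * y) * x⁻¹ := by
        have h3 : x⁻¹ * (y : G) = y * x⁻¹ := hyc y x⁻¹ ((P : Subgroup G).inv_mem hx)
        rw [mul_assoc, h3]
        group
      rw [h2]
      exact Core.isIrr_isClassFunction hχ _ _) (fun u => IsConj w u) (fun x _ u => hconj x u)
  obtain ⟨r', hr', h2⟩ := fixed_sum P (f := fun _ => 1) (fun u => isIntegral_one) (fun _ _ _ => rfl)
    (fun u => IsConj w u) (fun x _ u => hconj x u)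
  refine ⟨(Finset.univ.filter fun u : G => IsConj w u ∧ u ∈ Subgroup.centralizer ((P : Subgroup G) : Set G)).card,
    r, r', hr, hr', ?_, ?_⟩
  · have h3 : ∑ u with IsConj w u, ∑ y : O, χ (u * y) = centralChar χ w * ∑ y : O, χ y := by
      rw [Finset.sum_comm, Finset.mul_sum]
      refine Finset.sum_congr rfl fun y _ => ?_
      rw [ClassMul.sum_class_char_mul hχ]
      unfold centralChar
      ring
    have h4 : ∑ u with (IsConj w u ∧ u ∈ Subgroup.centralizer ((P : Subgroup G) : Set G)), ∑ y : O, χ (u * y) =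
        (Finset.univ.filter fun u : G => IsConj w u ∧ u ∈ Subgroup.centralizer ((P : Subgroup G) : Set G)).card *
          ∑ y : O, χ y := by
      rw [Finset.sum_congr rfl (g := fun _ => ∑ y : O, χ y), Finset.sum_const, nsmul_eq_mul]
      intro u hu
      rw [Finset.mem_filter] at hu
      have hu' : u ∈ O := by
        refine hO.all u hu.2.2 ?_
        obtain ⟨c, hcc⟩ := isConj_iff.1 hu.2.1
        rw [← hcc]
        have : orderOf (c * w * c⁻¹) = orderOf w := (MulAut.conj c).orderOf_eq w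
        rw [this]
        exact hw
      exact Fintype.sum_equiv (Equiv.mulLeft (⟨u, hu'⟩ : O)) _ _ fun y => rfl
    rw [← h3, h1, h4]
  · have h3 := ClassMul.card_filter_isConj (G := G) w
    rw [Finset.sum_const, Finset.sum_const, nsmul_eq_mul, nsmul_eq_mul, mul_one, mul_one] at h2
    rw [← h3]
    convert h2 using 2

/-- conjugates in the centralizer of `P` -/
theorem exists_conj_mem (P : Sylow p G) {O : Subgroup G} (hO : OP p (P : Subgroup G) O) {x : G} (hx : ¬ p ∣ orderOf x)
    (hd : (Nat.card (Subgroup.centralizer ({x} : Set G))).factorization p = (Nat.card G).factorization p) :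
    ∃ w ∈ O, IsConj w x := by
  set C := Subgroup.centralizer ({x} : Set G) with hC
  obtain ⟨Q⟩ : Nonempty (Sylow p C) := inferInstance
  have hQc : Nat.card ((Q : Subgroup C).map C.subtype) = p ^ (Nat.card G).factorization p := by
    rw [← hd, ← Q.card_eq_multiplicity]
    exact (Nat.card_congr (Subgroup.equivMapOfInjective _ C.subtype (Subgroup.subtype_injective _)).toEquiv).symm
  let Q' : Sylow p G := Sylow.ofCard ((Q : Subgroup C).map C.subtype) hQc
  obtain ⟨g, hg⟩ := MulAction.exists_smul_eq G Q' P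
  have hQ' : ∀ q ∈ (Q' : Subgroup G), q * x = x * q := by
    rintro q ⟨q', -, rfl⟩
    exact (Subgroup.mem_centralizer_singleton_iff.1 q'.2)
  refine ⟨g * x * g⁻¹, hO.all _ ?_ ?_, (isConj_iff.2 ⟨g, rfl⟩ : IsConj x _).symm⟩
  · rw [Subgroup.mem_centralizer_iff]
    intro y hy
    have hy' : y ∈ (P : Subgroup G) := hy
    rw [← hg, Sylow.coe_subgroup_smul] at hy'
    obtain ⟨q, hq, rfl⟩ := hy'
    have h1 := hQ' q hq
    show g * q * g⁻¹ * (g * x * g⁻¹) = g * x * g⁻¹ * (g * q * g⁻¹)
    calc g * q * g⁻¹ * (g * x * g⁻¹) = g * (q * x) * g⁻¹ := by group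
      _ = g * (x * q) * g⁻¹ := by rw [h1]
      _ = g * x * g⁻¹ * (g * q * g⁻¹) := by group
  · have : orderOf (g * x * g⁻¹) = orderOf x := (MulAut.conj g).orderOf_eq x
    rw [this]
    exact hx

/-- the index of the centralizer is prime to `p` -/
theorem not_dvd_index (P : Sylow p G) {w : G} (hw : w ∈ Subgroup.centralizer ((P : Subgroup G) : Set G)) :
    ¬ p ∣ (Subgroup.centralizer ({w} : Set G)).index := by
  have h1 : (P : Subgroup G) ≤ Subgroup.centralizer ({w} : Set G) := by
    intro x hx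
    rw [Subgroup.mem_centralizer_singleton_iff]
    exact Subgroup.mem_centralizer_iff.1 hw x hx
  intro h
  exact P.not_dvd_index (h.trans (Subgroup.index_dvd_of_le h1))

theorem blockDefect_eq {M : Ideal AlgInt} (hM : IsPModular p M) {χ : IrrCharacter G} (hχ : ¬ p ∣ charDegree (χ : G → ℂ)) :
    blockDefect p (blockOf M (χ : G → ℂ)) = (Nat.card G).factorization p := by
  have := isPrime_of_isPModular hM
  unfold blockDefect
  have h1 : sInf ((fun χ : IrrCharacter G => (charDegree (χ : G → ℂ)).factorization p) '' blockOf M (χ : G → ℂ)) = 0 := by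
    rw [Nat.sInf_eq_zero]
    left
    exact ⟨χ, Blocks.Basic.mem_blockOf_self χ, Nat.factorization_eq_zero_of_not_dvd hχ⟩
  rw [h1, Nat.sub_zero]

theorem charDegree_one' : charDegree (fun _ : G => (1 : ℂ)) = 1 := by
  unfold charDegree
  simp

/-- **characters outside the principal block** -/
theorem dvd_aO {M : Ideal AlgInt} (hM : IsPModular p M) (P : Sylow p G) {O : Subgroup G} (hO : OP p (P : Subgroup G) O)
    {χ : IrrCharacter G} (hχ : χ ∉ principalBlock M G) (hd : ¬ p ∣ charDegree (χ : G → ℂ)) : p ∣ aO O (χ : G → ℂ) := by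
  classical
  have := isPrime_of_isPModular hM
  have := Fintype.ofFinite G
  by_contra ha
  apply hχ
  have hc := Core.isIrr_isCharacter χ.2
  have hT := aO_eq O hc
  have hTn : ¬ p ∣ Nat.card O * aO O (χ : G → ℂ) := by
    intro h
    rcases (Nat.Prime.dvd_mul hp.out).1 h with h | h
    · exact hO.cop h
    · exact ha h
  let ε : IrrCharacter G := ⟨fun _ => 1, Blocks.Basic.isIrrCharacter_one⟩
  have hε : ¬ p ∣ charDegree (ε : G → ℂ) := by
    show ¬ p ∣ charDegree (fun _ : G => (1 : ℂ))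
    rw [charDegree_one']
    exact hp.out.one_lt.ne' ∘ Nat.dvd_one.1
  have hkey : ∀ w ∈ O, MemLocalIdeal M (centralChar (ε : G → ℂ) w - centralChar (χ : G → ℂ) w) := by
    intro w hw
    have hwp : ¬ p ∣ orderOf w := fun h => hO.cop (h.trans (by
      have := orderOf_dvd_natCard (⟨w, hw⟩ : O)
      rwa [Subgroup.orderOf_mk] at this))
    obtain ⟨n, r, r', hr, hr', h1, h2⟩ := key_id P hO χ.2 hwp
    rw [hT] at h1
    have h3 : centralChar (ε : G → ℂ) w = ((Subgroup.centralizer ({w} : Set G)).index : ℂ) := by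
      show ((Subgroup.centralizer ({w} : Set G)).index : ℂ) * 1 / 1 = _
      rw [mul_one, div_one]
    have hTn' : MemLocalRing M (((Nat.card O * aO O (χ : G → ℂ) : ℕ) : ℂ)⁻¹) := memLocalRing_inv_natCast hM hTn
    have h0 : ((Nat.card O * aO O (χ : G → ℂ) : ℕ) : ℂ) ≠ 0 := by
      have : Nat.card O * aO O (χ : G → ℂ) ≠ 0 := fun h => hTn (h ▸ dvd_zero p)
      exact_mod_cast this
    have h4 : centralChar (ε : G → ℂ) w - centralChar (χ : G → ℂ) w =
        (p : ℂ) * r' - (p : ℂ) * r * ((Nat.card O * aO O (χ : G → ℂ) : ℕ) : ℂ)⁻¹ := by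
      rw [h3, h2]
      have h5 : centralChar (χ : G → ℂ) w = n + (p : ℂ) * r * ((Nat.card O * aO O (χ : G → ℂ) : ℕ) : ℂ)⁻¹ := by
        apply mul_right_cancel₀ h0
        rw [add_mul, mul_assoc ((p : ℂ) * r), inv_mul_cancel₀ h0, mul_one]
        push_cast
        exact h1
      rw [h5]
      ring
    rw [h4]
    refine memLocalIdeal_sub (memLocalIdeal_mul_right (memLocalIdeal_p hM) (memLocalRing_of_isIntegral hr')) ?_
    exact memLocalIdeal_mul_right (memLocalIdeal_mul_right (memLocalIdeal_p hM) (memLocalRing_of_isIntegral hr)) hTn'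
  have hS : SameBlock M (ε : G → ℂ) (χ : G → ℂ) := by
    refine (S4510.result p M hM _ ε χ (blockDefect_eq hM hε) (blockDefect_eq hM hd)).2 fun x hx hxd => ?_
    obtain ⟨w, hw, hwx⟩ := exists_conj_mem P hO hx hxd
    rw [← Blocks.Basic.centralChar_isConj ε.2 hwx, ← Blocks.Basic.centralChar_isConj χ.2 hwx]
    exact hkey w hw
  exact hS

/-- characters of degree divisible by `p` -/
theorem dvd_aO_of_dvd {M : Ideal AlgInt} (hM : IsPModular p M) (P : Sylow p G) {O : Subgroup G}
    (hO : OP p (P : Subgroup G) O) {χ : IrrCharacter G} (hd : p ∣ charDegree (χ : G → ℂ)) : p ∣ aO O (χ : G → ℂ) := by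
  classical
  have := isPrime_of_isPModular hM
  have := Fintype.ofFinite G
  have hT := aO_eq O (Core.isIrr_isCharacter χ.2)
  have h1 : MemLocalIdeal M (∑ y : O, (χ : G → ℂ) y) := by
    refine memLocalIdeal_sum fun y _ => ?_
    have hi : IsIntegral ℤ (centralChar (χ : G → ℂ) (y : G)) := Blocks.Central.isIntegral_centralChar χ.2 _
    have h2 : (χ : G → ℂ) y = (charDegree (χ : G → ℂ) : ℂ) *
        (centralChar (χ : G → ℂ) (y : G) * (((Subgroup.centralizer ({(y : G)} : Set G)).index : ℕ) : ℂ)⁻¹) := by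
      have h3 := Blocks.Basic.irr_one_eq_charDegree χ.2
      have h4 : (χ : G → ℂ) 1 ≠ 0 := Blocks.Basic.irr_one_ne_zero χ.2
      have h5 : (((Subgroup.centralizer ({(y : G)} : Set G)).index : ℕ) : ℂ) ≠ 0 := by
        exact_mod_cast Subgroup.index_ne_zero_of_finite
      rw [← h3]
      unfold centralChar
      field_simp
    rw [h2]
    refine memLocalIdeal_mul_right ((memLocalIdeal_natCast_iff hM _).2 hd) (memLocalRing_mul ?_ ?_)
    · exact memLocalRing_of_isIntegral hi
    · exact memLocalRing_inv_natCast hM (not_dvd_index P (hO.le y.2))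
  rw [hT, ← Nat.cast_mul, memLocalIdeal_natCast_iff hM] at h1
  rcases (Nat.Prime.dvd_mul hp.out).1 h1 with h | h
  · exact absurd h hO.cop
  · exact h

/-- **characters in the principal block** -/
theorem aO_principal {M : Ideal AlgInt} (hM : IsPModular p M) (P : Sylow p G) {O : Subgroup G}
    (hO : OP p (P : Subgroup G) O) {χ : IrrCharacter G} (hχ : χ ∈ principalBlock M G) :
    (p : ℤ) ∣ (aO O (χ : G → ℂ) : ℤ) - charDegree (χ : G → ℂ) := by
  classical
  have := isPrime_of_isPModular hM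
  have := Fintype.ofFinite G
  have hT := aO_eq O (Core.isIrr_isCharacter χ.2)
  have hS : SameBlock M (fun _ : G => (1 : ℂ)) (χ : G → ℂ) := hχ
  have h1 : MemLocalIdeal M (∑ y : O, ((χ : G → ℂ) y - charDegree (χ : G → ℂ))) := by
    refine memLocalIdeal_sum fun y _ => ?_
    have h2 : (χ : G → ℂ) y - charDegree (χ : G → ℂ) = -((centralChar (fun _ : G => (1 : ℂ)) (y : G) -
        centralChar (χ : G → ℂ) (y : G)) * ((charDegree (χ : G → ℂ) : ℂ) *
          (((Subgroup.centralizer ({(y : G)} : Set G)).index : ℕ) : ℂ)⁻¹)) := by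
      have h3 := Blocks.Basic.irr_one_eq_charDegree χ.2
      have h4 : (χ : G → ℂ) 1 ≠ 0 := Blocks.Basic.irr_one_ne_zero χ.2
      have h5 : (((Subgroup.centralizer ({(y : G)} : Set G)).index : ℕ) : ℂ) ≠ 0 := by
        exact_mod_cast Subgroup.index_ne_zero_of_finite
      rw [← h3]
      unfold centralChar
      field_simp
      ring
    rw [h2]
    refine memLocalIdeal_neg (memLocalIdeal_mul_right (hS y) (memLocalRing_mul (memLocalRing_natCast _) ?_))
    exact memLocalRing_inv_natCast hM (not_dvd_index P (hO.le y.2))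
  rw [Finset.sum_sub_distrib, hT, Finset.sum_const, Finset.card_univ, nsmul_eq_mul, ← Nat.card_eq_fintype_card,
    ← mul_sub] at h1
  have h2 : MemLocalIdeal M (((Nat.card O : ℤ) * ((aO O (χ : G → ℂ) : ℤ) - charDegree (χ : G → ℂ)) : ℤ) : ℂ) := by
    push_cast
    exact h1
  rw [memLocalIdeal_intCast_iff hM] at h2
  rcases Int.Prime.dvd_mul' hp.out h2 with h | h
  · exact absurd (Int.natCast_dvd_natCast.1 h) hO.cop
  · exact h

/-! ### The action of `J` -/

/-- `κ` represents an element of `J = Gal(ℚ(ζ_|G|) / ℚ(ζ_{p m'}))`, `m'` the `p'`-part of `|G|` -/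
def InJ (p : ℕ) (G : Type u) [Group G] (k : ℕ) : Prop :=
  k.Coprime (Nat.card G) ∧ ∀ a m : ℕ, ¬ p ∣ m → Nat.card G = p ^ a * m → k ≡ 1 [MOD p ^ min a 1 * m]

/-- the members of `X0` -/
def X0 (p : ℕ) (M : Ideal AlgInt) (G : Type u) [Group G] : Set (IrrCharacter G) :=
  {χ | χ ∈ principalBlock M G ∧ ¬ p ∣ charDegree (χ : G → ℂ) ∧ AlmRat p (χ : G → ℂ)}

/-- sums over an integer valued function constant on the orbits of `J` -/
theorem sum_orbits [Fintype (IrrCharacter G)] (w : IrrCharacter G → ℤ)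
    (hw : ∀ k : ℕ, InJ p G k → ∀ χ χ' : IrrCharacter G, (∀ g, (χ' : G → ℂ) g = (χ : G → ℂ) (g ^ k)) → w χ' = w χ)
    (h0 : ∀ χ : IrrCharacter G, AlmRat p (χ : G → ℂ) → (p : ℤ) ∣ w χ) : (p : ℤ) ∣ ∑ χ : IrrCharacter G, w χ := by
  classical
  have : NeZero (Nat.card G) := ⟨Nat.card_pos.ne'⟩
  obtain ⟨a, m, hm, hN⟩ := Nat.exists_eq_pow_mul_and_not_dvd (n := Nat.card G) Nat.card_pos.ne' p hp.out.ne_one
  have he : p ^ min a 1 * m ∣ Nat.card G := hN ▸ Nat.mul_dvd_mul_right (pow_dvd_pow p (min_le_left a 1)) m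
  letI := H775.S4790.act (G := G)
  let J : Subgroup (ZMod (Nat.card G))ˣ := H775.S4790.JJ he
  have hJ : IsPGroup p J := H775.S4790.isPGroup_JJ hp.out hm hN he
  have hIn : ∀ k : ℕ, k.Coprime (Nat.card G) → k ≡ 1 [MOD p ^ min a 1 * m] → InJ p G k := by
    intro k hk hk1
    refine ⟨hk, fun a' m' hm' hN' => ?_⟩
    have h1 : p ^ a' * m' = p ^ a * m := hN'.symm.trans hN
    have h2 : a' = a := by
      have h3 := congrArg (fun n => n.factorization p) h1
      have hm0 : m ≠ 0 := fun h => hm (h ▸ dvd_zero p)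
      have hm0' : m' ≠ 0 := fun h => hm' (h ▸ dvd_zero p)
      rw [Nat.factorization_mul (pow_ne_zero _ hp.out.ne_zero) hm0', Nat.factorization_mul (pow_ne_zero _ hp.out.ne_zero) hm0,
        Finsupp.add_apply, Finsupp.add_apply, hp.out.factorization_pow, hp.out.factorization_pow, Finsupp.single_eq_same,
        Finsupp.single_eq_same, Nat.factorization_eq_zero_of_not_dvd hm, Nat.factorization_eq_zero_of_not_dvd hm'] at h3
      omega
    subst h2
    have h3 : m' = m := Nat.eq_of_mul_eq_mul_left (pow_pos hp.out.pos _) h1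
    subst h3
    exact hk1
  -- the function with the multiples of `p` on the fixed points removed
  let w' : IrrCharacter G → ℤ := fun χ => if AlmRat p (χ : G → ℂ) then 0 else w χ
  have halm : ∀ (u : J) (χ : IrrCharacter G), AlmRat p ((u • χ : IrrCharacter G) : G → ℂ) ↔ AlmRat p (χ : G → ℂ) := by
    have key : ∀ (u : J) (χ : IrrCharacter G), AlmRat p (χ : G → ℂ) → AlmRat p ((u • χ : IrrCharacter G) : G → ℂ) := by
      rintro ⟨u, hu⟩ χ ⟨n, hn0, hn2, hn⟩
      exact ⟨n, hn0, hn2, fun g => hn (g ^ (u : ZMod (Nat.card G)).val)⟩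
    intro u χ
    refine ⟨fun h => ?_, key u χ⟩
    have h1 := key u⁻¹ _ h
    rwa [inv_smul_smul] at h1
  have hinv : ∀ (u : J) (χ : IrrCharacter G), w' (u • χ) = w' χ := by
    intro u χ
    have h1 : w (u • χ) = w χ := by
      obtain ⟨u, hu⟩ := u
      exact hw (u : ZMod (Nat.card G)).val (hIn _ (ZMod.val_coe_unit_coprime u) ((H775.S4790.mem_JJ he u).1 hu)) χ _
        (fun g => rfl)
    simp only [w', h1]
    exact if_congr (halm u χ) rfl rfl
  have hd : ∀ χ : IrrCharacter G, w' χ ≠ 0 → p ∣ Nat.card (MulAction.orbit J χ) := by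
    intro χ hχ
    obtain ⟨j, hj⟩ := hJ.card_orbit χ
    rcases Nat.eq_zero_or_pos j with rfl | hj0
    · exfalso
      rw [pow_zero] at hj
      have hfix : ∀ u : J, u • χ = χ := by
        intro u
        have h1 := (Nat.card_eq_one_iff_unique.1 hj).1
        have h2 := h1.elim ⟨u • χ, MulAction.mem_orbit χ u⟩ ⟨χ, MulAction.mem_orbit_self χ⟩
        exact congrArg Subtype.val h2
      have halm' : AlmRat p (χ : G → ℂ) := by
        refine H775.S4790.almRat_of_fixed hp.out hm hN χ.2 fun k hk hk1 g => ?_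
        have h1 : ZMod.unitOfCoprime k hk ∈ J := by
          rw [H775.S4790.mem_JJ, ZMod.coe_unitOfCoprime, ZMod.val_natCast]
          exact ((Nat.mod_modEq k (Nat.card G)).of_dvd he).trans hk1
        have h2 := hfix ⟨_, h1⟩
        have h3 := congrArg (fun ψ : IrrCharacter G => (ψ : G → ℂ) g) h2
        have h4 : (χ : G → ℂ) (g ^ ((ZMod.unitOfCoprime k hk : (ZMod (Nat.card G))ˣ) : ZMod (Nat.card G)).val) =
          (χ : G → ℂ) g := h3
        rw [ZMod.coe_unitOfCoprime, ZMod.val_natCast,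
          H775.S4790.pow_val_congr g (Nat.mod_modEq k (Nat.card G))] at h4
        exact h4
      exact hχ (if_pos halm')
    · rw [hj]
      exact dvd_pow_self p hj0.ne'
  obtain ⟨r, -, hsum⟩ := DefectZero.sum_eq_of_dvd_orbit (H := J) (⊤ : Subring ℤ) p w' hinv (fun _ => trivial) hd
  have h1 : (p : ℤ) ∣ ∑ χ : IrrCharacter G, w' χ := ⟨r, hsum⟩
  have h2 : (p : ℤ) ∣ ∑ χ : IrrCharacter G, (w χ - w' χ) := by
    refine Finset.dvd_sum fun χ _ => ?_
    by_cases h : AlmRat p (χ : G → ℂ)
    · simp only [w', if_pos h, sub_zero]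
      exact h0 χ h
    · simp only [w', if_neg h, sub_self]
      exact dvd_zero _
  rw [Finset.sum_sub_distrib] at h2
  have h3 := dvd_add h2 h1
  rwa [sub_add_cancel] at h3

/-- **the formula (F)** -/
theorem F_congr {M : Ideal AlgInt} (hM : IsPModular p M) (P : Sylow p G) {O : Subgroup G} (hO : OP p (P : Subgroup G) O)
    [Fintype (IrrCharacter G)] [DecidablePred (· ∈ X0 p M G)] (c : IrrCharacter G → ℤ)
    (hc : ∀ k : ℕ, InJ p G k → ∀ χ χ' : IrrCharacter G, (∀ g, (χ' : G → ℂ) g = (χ : G → ℂ) (g ^ k)) → c χ' = c χ) :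
    (p : ℤ) ∣ ∑ χ : IrrCharacter G, c χ * aO O (χ : G → ℂ) - ∑ χ : IrrCharacter G with χ ∈ X0 p M G, c χ * charDegree (χ : G → ℂ) := by
  classical
  have := Fintype.ofFinite G
  rw [Finset.sum_filter, ← Finset.sum_sub_distrib]
  have hpm : ∀ k : ℕ, InJ p G k → ∀ χ χ' : IrrCharacter G, (∀ g, (χ' : G → ℂ) g = (χ : G → ℂ) (g ^ k)) →
      aO O (χ' : G → ℂ) = aO O (χ : G → ℂ) := by
    intro k hk χ χ' h
    have hcop : (Nat.card O).Coprime k := (hk.1.coprime_dvd_right (Subgroup.card_subgroup_dvd_card O)).symm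
    have h1 := aO_eq O (Core.isIrr_isCharacter χ'.2)
    have h2 := aO_eq O (Core.isIrr_isCharacter χ.2)
    have h3 : ∑ y : O, (χ' : G → ℂ) y = ∑ y : O, (χ : G → ℂ) y := by
      refine Fintype.sum_equiv (powCoprime hcop) _ _ fun y => ?_
      rw [h]
      rfl
    rw [h1, h2] at h3
    have h0 : (Nat.card O : ℂ) ≠ 0 := by exact_mod_cast Nat.card_pos.ne'
    exact_mod_cast mul_left_cancel₀ h0 h3
  have hdeg : ∀ (k : ℕ) (χ χ' : IrrCharacter G), (∀ g, (χ' : G → ℂ) g = (χ : G → ℂ) (g ^ k)) →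
      charDegree (χ' : G → ℂ) = charDegree (χ : G → ℂ) := by
    intro k χ χ' h
    unfold charDegree
    rw [h, one_pow]
  -- `w χ = c χ (aO χ - [χ ∈ B0] χ(1))` is divisible by `p`
  have h1 : (p : ℤ) ∣ ∑ χ : IrrCharacter G, c χ * ((aO O (χ : G → ℂ) : ℤ) -
      if χ ∈ principalBlock M G ∧ ¬ p ∣ charDegree (χ : G → ℂ) then (charDegree (χ : G → ℂ) : ℤ) else 0) := by
    refine Finset.dvd_sum fun χ _ => Dvd.dvd.mul_left ?_ _
    by_cases hB : χ ∈ principalBlock M G
    · by_cases hd : p ∣ charDegree (χ : G → ℂ)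
      · rw [if_neg (fun h => h.2 hd), sub_zero]
        exact_mod_cast dvd_aO_of_dvd hM P hO hd
      · rw [if_pos ⟨hB, hd⟩]
        exact aO_principal hM P hO hB
    · rw [if_neg (fun h => hB h.1), sub_zero]
      by_cases hd : p ∣ charDegree (χ : G → ℂ)
      · exact_mod_cast dvd_aO_of_dvd hM P hO hd
      · exact_mod_cast dvd_aO hM P hO hB hd
  -- the non-fixed members of `B0` of degree prime to `p`
  have h2 : (p : ℤ) ∣ ∑ χ : IrrCharacter G, (if AlmRat p (χ : G → ℂ) then 0 else c χ * aO O (χ : G → ℂ)) := by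
    refine sum_orbits _ (fun k hk χ χ' h => ?_) (fun χ hχ => ?_)
    · have h3 : AlmRat p (χ' : G → ℂ) ↔ AlmRat p (χ : G → ℂ) := by
        constructor
        · rintro ⟨n, hn0, hn2, hn⟩
          refine ⟨n, hn0, hn2, fun g => ?_⟩
          obtain ⟨l, hl⟩ := H352.S4790.exists_inverse hk.1
          have h4 := hn (g ^ l)
          rwa [h, ← pow_mul, mul_comm l k, hl] at h4
        · rintro ⟨n, hn0, hn2, hn⟩
          exact ⟨n, hn0, hn2, fun g => by rw [h]; exact hn _⟩
      simp only [hpm k hk χ χ' h, hc k hk χ χ' h]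
      exact if_congr h3 rfl rfl
    · simp only [if_pos hχ]
      exact dvd_zero _
  -- comparison
  have h3 : (p : ℤ) ∣ ∑ χ : IrrCharacter G, ((if AlmRat p (χ : G → ℂ) then 0 else c χ * aO O (χ : G → ℂ)) -
      (if AlmRat p (χ : G → ℂ) then 0 else c χ *
        if χ ∈ principalBlock M G ∧ ¬ p ∣ charDegree (χ : G → ℂ) then (charDegree (χ : G → ℂ) : ℤ) else 0)) := by
    refine Finset.dvd_sum fun χ _ => ?_
    by_cases ha : AlmRat p (χ : G → ℂ)
    · rw [if_pos ha, if_pos ha, sub_zero]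
      exact dvd_zero _
    · rw [if_neg ha, if_neg ha, ← mul_sub]
      refine Dvd.dvd.mul_left ?_ _
      by_cases hB : χ ∈ principalBlock M G
      · by_cases hd : p ∣ charDegree (χ : G → ℂ)
        · rw [if_neg (fun h => h.2 hd), sub_zero]
          exact_mod_cast dvd_aO_of_dvd hM P hO hd
        · rw [if_pos ⟨hB, hd⟩]
          exact aO_principal hM P hO hB
      · rw [if_neg (fun h => hB h.1), sub_zero]
        by_cases hd : p ∣ charDegree (χ : G → ℂ)
        · exact_mod_cast dvd_aO_of_dvd hM P hO hd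
        · exact_mod_cast dvd_aO hM P hO hB hd
  have h4 : ∑ χ : IrrCharacter G, (c χ * aO O (χ : G → ℂ) - if χ ∈ X0 p M G then c χ * charDegree (χ : G → ℂ) else 0) =
      ∑ χ : IrrCharacter G, c χ * ((aO O (χ : G → ℂ) : ℤ) -
        if χ ∈ principalBlock M G ∧ ¬ p ∣ charDegree (χ : G → ℂ) then (charDegree (χ : G → ℂ) : ℤ) else 0) -
      ∑ χ : IrrCharacter G, ((if AlmRat p (χ : G → ℂ) then 0 else c χ * aO O (χ : G → ℂ)) -
      (if AlmRat p (χ : G → ℂ) then 0 else c χ *
        if χ ∈ principalBlock M G ∧ ¬ p ∣ charDegree (χ : G → ℂ) then (charDegree (χ : G → ℂ) : ℤ) else 0)) +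
      ∑ χ : IrrCharacter G, (if AlmRat p (χ : G → ℂ) then 0 else c χ * aO O (χ : G → ℂ)) := by
    rw [← Finset.sum_sub_distrib, ← Finset.sum_add_distrib]
    refine Finset.sum_congr rfl fun χ _ => ?_
    by_cases ha : AlmRat p (χ : G → ℂ)
    · by_cases hB : χ ∈ principalBlock M G ∧ ¬ p ∣ charDegree (χ : G → ℂ)
      · rw [if_pos (show χ ∈ X0 p M G from ⟨hB.1, hB.2, ha⟩), if_pos ha, if_pos ha, if_pos hB]
        ring
      · rw [if_neg (show ¬ χ ∈ X0 p M G from fun h => hB ⟨h.1, h.2.1⟩), if_pos ha, if_pos ha, if_neg hB]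
        ring
    · rw [if_neg (show ¬ χ ∈ X0 p M G from fun h => ha h.2.2), if_neg ha, if_neg ha]
      by_cases hB : χ ∈ principalBlock M G ∧ ¬ p ∣ charDegree (χ : G → ℂ)
      · rw [if_pos hB]
        ring
      · rw [if_neg hB]
        ring
  rw [h4]
  exact dvd_add (dvd_sub h1 h3) h2

/-- a character fixed by `J` with `p ∤ [ψ_O, 1_O]` has a constituent in `X0` -/
theorem exists_member [Fintype G] {M : Ideal AlgInt} (hM : IsPModular p M) (P : Sylow p G) {O : Subgroup G}
    (hO : OP p (P : Subgroup G) O) {ψ : G → ℂ} (hψ : IsCharacter G ψ) (hJ : ∀ k : ℕ, InJ p G k → ∀ g, ψ (g ^ k) = ψ g)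
    (hF : ¬ p ∣ aO O ψ) : ∃ χ : IrrCharacter G, χ ∈ X0 p M G ∧ classInner ψ (χ : G → ℂ) ≠ 0 := by
  classical
  have := Core.finite_irr (G := G)
  have := Fintype.ofFinite (IrrCharacter G)
  choose c hc using fun χ : IrrCharacter G => Core.classInner_isNat hψ (Core.isIrr_isCharacter χ.2)
  have hinv : ∀ k : ℕ, InJ p G k → ∀ χ χ' : IrrCharacter G, (∀ g, (χ' : G → ℂ) g = (χ : G → ℂ) (g ^ k)) →
      ((c χ' : ℕ) : ℤ) = c χ := by
    intro k hk χ χ' h
    have h1 : classInner ψ (χ' : G → ℂ) = classInner ψ (χ : G → ℂ) := by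
      rw [Core.classInner_def, Core.classInner_def]
      congr 1
      refine Fintype.sum_equiv (powCoprime hk.1.symm) _ _ fun g => ?_
      show ψ g * conj ((χ' : G → ℂ) g) = ψ (g ^ k) * conj ((χ : G → ℂ) (g ^ k))
      rw [h, hJ k hk]
    rw [hc, hc] at h1
    exact_mod_cast h1
  have h1 := F_congr hM P hO (fun χ => ((c χ : ℕ) : ℤ)) hinv
  by_contra hcon
  push Not at hcon
  have h2 : ∑ χ : IrrCharacter G with χ ∈ X0 p M G, ((c χ : ℕ) : ℤ) * charDegree (χ : G → ℂ) = 0 := by
    refine Finset.sum_eq_zero fun χ hχ => ?_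
    have h3 := hcon χ (Finset.mem_filter.1 hχ).2
    rw [hc] at h3
    have h4 : c χ = 0 := by exact_mod_cast h3
    rw [h4]
    simp
  rw [h2, sub_zero] at h1
  have h3 : ∑ χ : IrrCharacter G, ((c χ : ℕ) : ℤ) * aO O (χ : G → ℂ) = aO O ψ := by
    have h4 : ψ = ∑ χ : IrrCharacter G, (c χ : ℂ) • (χ : G → ℂ) := by
      have h5 := Core.classFunction_eq_sum (Core.isCharacter_isClassFunction hψ)
      rw [h5]
      refine Finset.sum_congr rfl fun χ _ => ?_
      rw [hc]
    have h6 := aO_eq O hψ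
    have h7 : ∑ y : O, ψ y = ∑ χ : IrrCharacter G, (c χ : ℂ) * ((Nat.card O : ℂ) * aO O (χ : G → ℂ)) := by
      have h8 : ∀ y : O, ψ y = ∑ χ : IrrCharacter G, (c χ : ℂ) * (χ : G → ℂ) y := by
        intro y
        conv_lhs => rw [h4]
        rw [Finset.sum_apply]
        rfl
      rw [Finset.sum_congr rfl fun y _ => h8 y, Finset.sum_comm]
      refine Finset.sum_congr rfl fun χ _ => ?_
      rw [← Finset.mul_sum, aO_eq O (Core.isIrr_isCharacter χ.2)]
    rw [h6] at h7
    have h0 : (Nat.card O : ℂ) ≠ 0 := by exact_mod_cast Nat.card_pos.ne'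
    have h9 : (Nat.card O : ℂ) * aO O ψ = (Nat.card O : ℂ) * ∑ χ : IrrCharacter G, (c χ : ℂ) * aO O (χ : G → ℂ) := by
      rw [h7, Finset.mul_sum]
      exact Finset.sum_congr rfl fun χ _ => by ring
    have h10 := mul_left_cancel₀ h0 h9
    exact_mod_cast h10.symm
  rw [h3] at h1
  exact hF (by exact_mod_cast h1)

/-- **pairwise orthogonal characters give different members of `X0`** -/
theorem card_le [Fintype G] {M : Ideal AlgInt} (hM : IsPModular p M) (P : Sylow p G) {O : Subgroup G}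
    (hO : OP p (P : Subgroup G) O) {ι : Type} [Finite ι] (ψ : ι → G → ℂ) (hψ : ∀ i, IsCharacter G (ψ i))
    (hJ : ∀ i, ∀ k : ℕ, InJ p G k → ∀ g, ψ i (g ^ k) = ψ i g) (hF : ∀ i, ¬ p ∣ aO O (ψ i))
    (horth : ∀ i j, i ≠ j → classInner (ψ i) (ψ j) = 0) :
    ∃ f : ι → X0 p M G, Function.Injective f ∧ ∀ i, classInner (ψ i) ((f i : IrrCharacter G) : G → ℂ) ≠ 0 := by
  classical
  have := Core.finite_irr (G := G)
  have := Fintype.ofFinite (IrrCharacter G)
  choose f hf using fun i => exists_member hM P hO (hψ i) (hJ i) (hF i)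
  refine ⟨fun i => ⟨f i, (hf i).1⟩, fun i j hij => ?_, fun i => (hf i).2⟩
  by_contra hne
  have h1 : f i = f j := congrArg Subtype.val hij
  have h2 := horth i j hne
  have h3 := (hf i).2
  have h4 := (hf j).2
  rw [← h1] at h4
  choose a ha using fun χ : IrrCharacter G => Core.classInner_isNat (hψ i) (Core.isIrr_isCharacter χ.2)
  choose b hb using fun χ : IrrCharacter G => Core.classInner_isNat (hψ j) (Core.isIrr_isCharacter χ.2)
  have h5 : classInner (ψ i) (ψ j) = ∑ χ : IrrCharacter G, (a χ : ℂ) * (b χ : ℂ) := by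
    rw [Core.classInner_eq_sum (Core.isCharacter_isClassFunction (hψ i)) (Core.isCharacter_isClassFunction (hψ j))]
    refine Finset.sum_congr rfl fun χ _ => ?_
    rw [ha, hb]
    simp
  rw [h2] at h5
  have h6 : ∑ χ : IrrCharacter G, a χ * b χ = 0 := by exact_mod_cast h5.symm
  rw [Finset.sum_eq_zero_iff] at h6
  have h7 := h6 (f i) (Finset.mem_univ _)
  rw [ha] at h3
  rw [hb] at h4
  rcases mul_eq_zero.1 h7 with h | h
  · exact h3 (by rw [h]; simp)
  · exact h4 (by rw [h]; simp)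

end Cfsg.Agent.H185.AR
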